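import Groth.Prelude.Def_Koszul
import Groth.Prelude.Def_LCI2
import Mathlib.LinearAlgebra.TensorProduct.Prod
import Mathlib.LinearAlgebra.TensorProduct.Tower
import Mathlib.RingTheory.Flat.Basic

/-!
# Elementwise access to the mapping-cone Koszul complex
-/

set_option autoImplicit false

universe u

open CategoryTheory CategoryTheory.Limits CochainComplex
open scoped TensorProduct

namespace Groth.Agent.KoszulLib

variable {R : Type u} [CommRing R]

/-- The modules of the Koszul complex. -/
noncomputable abbrev X (l : List R) (i : ℤ) : ModuleCat.{u} R := (Koszul.koszul R l).X i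

/-- The differentials, as linear maps. -/
noncomputable abbrev dL (l : List R) (i j : ℤ) : X l i →ₗ[R] X l j :=
  ((Koszul.koszul R l).d i j).hom

theorem dL_dL (l : List R) (i j k : ℤ) (x : X l i) : dL l j k (dL l i j x) = 0 :=
  ConcreteCategory.congr_hom ((Koszul.koszul R l).d_comp_d i j k) x

noncomputable def fstL (f : R) (l : List R) (i j : ℤ) (h : i + 1 = j) : X (f :: l) i →ₗ[R] X l j :=
  ((mappingCone.fst (f • 𝟙 (Koszul.koszul R l))).1.v i j h).hom

noncomputable def sndL (f : R) (l : List R) (i : ℤ) : X (f :: l) i →ₗ[R] X l i :=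
  ((mappingCone.snd (f • 𝟙 (Koszul.koszul R l))).v i i (add_zero i)).hom

noncomputable def inlL (f : R) (l : List R) (i j : ℤ) (h : i + 1 = j) : X l j →ₗ[R] X (f :: l) i :=
  ((mappingCone.inl (f • 𝟙 (Koszul.koszul R l))).v j i (by omega)).hom

noncomputable def inrL (f : R) (l : List R) (i : ℤ) : X l i →ₗ[R] X (f :: l) i :=
  ((mappingCone.inr (f • 𝟙 (Koszul.koszul R l))).f i).hom

variable (f : R) (l : List R)

theorem ext_pair {i j : ℤ} (h : i + 1 = j) {x y : X (f :: l) i}
    (h₁ : fstL f l i j h x = fstL f l i j h y) (h₂ : sndL f l i x = sndL f l i y) : x = y := by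
  have e := ConcreteCategory.congr_hom (mappingCone.id_X (f • 𝟙 (Koszul.koszul R l)) i j h)
  have hx := e x
  have hy := e y
  simp only [ModuleCat.hom_add, ModuleCat.hom_comp, LinearMap.add_apply, LinearMap.comp_apply] at hx hy
  change inlL f l i j h (fstL f l i j h x) + inrL f l i (sndL f l i x) = x at hx
  change inlL f l i j h (fstL f l i j h y) + inrL f l i (sndL f l i y) = y at hy
  rw [← hx, ← hy, h₁, h₂]

theorem fst_inl {i j : ℤ} (h : i + 1 = j) (a : X l j) : fstL f l i j h (inlL f l i j h a) = a :=
  ConcreteCategory.congr_hom (mappingCone.inl_v_fst_v (f • 𝟙 (Koszul.koszul R l)) j i h) a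

theorem snd_inl {i j : ℤ} (h : i + 1 = j) (a : X l j) : sndL f l i (inlL f l i j h a) = 0 :=
  ConcreteCategory.congr_hom (mappingCone.inl_v_snd_v (f • 𝟙 (Koszul.koszul R l)) j i (by omega)) a

theorem fst_inr {i j : ℤ} (h : i + 1 = j) (b : X l i) : fstL f l i j h (inrL f l i b) = 0 :=
  ConcreteCategory.congr_hom (mappingCone.inr_f_fst_v (f • 𝟙 (Koszul.koszul R l)) i j h) b

theorem snd_inr {i : ℤ} (b : X l i) : sndL f l i (inrL f l i b) = b :=
  ConcreteCategory.congr_hom (mappingCone.inr_f_snd_v (f • 𝟙 (Koszul.koszul R l)) i) b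

/-- The decomposition of a module of the cone. -/
noncomputable def pair (i j : ℤ) (h : i + 1 = j) : (X l j × X l i) ≃ₗ[R] X (f :: l) i :=
  LinearEquiv.ofLinear
    ((inlL f l i j h).coprod (inrL f l i))
    ((fstL f l i j h).prod (sndL f l i))
    (LinearMap.ext fun x => ext_pair f l h
      (by simp [fst_inl, fst_inr]) (by simp [snd_inl, snd_inr]))
    (LinearMap.ext fun p => Prod.ext (by simp [fst_inl, fst_inr]) (by simp [snd_inl, snd_inr]))

theorem fst_d {i j k : ℤ} (hij : i + 1 = j) (hjk : j + 1 = k) (x : X (f :: l) i) :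
    fstL f l j k hjk (dL (f :: l) i j x) = -dL l j k (fstL f l i j hij x) :=
  ConcreteCategory.congr_hom (mappingCone.d_fst_v (f • 𝟙 (Koszul.koszul R l)) i j k hij hjk) x

theorem snd_d {i j : ℤ} (hij : i + 1 = j) (x : X (f :: l) i) :
    sndL f l j (dL (f :: l) i j x) =
      f • fstL f l i j hij x + dL l i j (sndL f l i x) :=
  ConcreteCategory.congr_hom (mappingCone.d_snd_v (f • 𝟙 (Koszul.koszul R l)) i j hij) x

/-- Degree zero of the Koszul complex of the empty list. -/
noncomputable def nilEquiv : X ([] : List R) 0 ≃ₗ[R] R :=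
  (HomologicalComplex.singleObjXSelf (ComplexShape.up ℤ) 0 (ModuleCat.of R R)).toLinearEquiv

theorem subsingleton_nil {i : ℤ} (h : i ≠ 0) : Subsingleton (X ([] : List R) i) :=
  ModuleCat.subsingleton_of_isZero
    (HomologicalComplex.isZero_single_obj_X (ComplexShape.up ℤ) 0 (ModuleCat.of R R) i h)

theorem subsingleton_of_outside : ∀ (l : List R) (i : ℤ), 0 < i ∨ i + l.length < 0 →
    Subsingleton (X l i)
  | [], i, h => subsingleton_nil (by simp at h; omega)
  | f :: l, i, h => by
    simp only [List.length_cons] at h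
    have := subsingleton_of_outside l (i + 1) (by push_cast at h; omega)
    have := subsingleton_of_outside l i (by push_cast at h; omega)
    exact (pair f l i (i + 1) rfl).symm.injective.subsingleton

theorem free : ∀ (l : List R) (i : ℤ), Module.Free R (X l i)
  | [], i => by
    by_cases h : i = 0
    · subst h; exact Module.Free.of_equiv (nilEquiv (R := R)).symm
    · haveI := subsingleton_nil (R := R) h
      infer_instance
  | f :: l, i => by
    haveI := free l (i + 1)
    haveI := free l i
    exact Module.Free.of_equiv (pair f l i (i + 1) rfl)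

/-- Degree zero is free of rank one. -/
noncomputable def e0 : ∀ l : List R, X l 0 ≃ₗ[R] R
  | [] => nilEquiv
  | f :: l =>
    haveI := subsingleton_of_outside l 1 (Or.inl one_pos)
    ((pair f l 0 1 rfl).symm ≪≫ₗ
      (LinearEquiv.ofLinear (LinearMap.snd R (X l 1) (X l 0)) (LinearMap.inr R _ _)
        (LinearMap.ext fun _ => rfl) (LinearMap.ext fun _ => Prod.ext (Subsingleton.elim _ _) rfl))) ≪≫ₗ
      e0 l

theorem e0_cons (x : X (f :: l) 0) : e0 (f :: l) x = e0 l (sndL f l 0 x) := rfl

theorem range_d_zero : ∀ (l : List R) (r : R),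
    r ∈ Ideal.ofList l ↔ ∃ x : X l (-1), e0 l (dL l (-1) 0 x) = r
  | [], r => by
    haveI := subsingleton_nil (R := R) (i := -1) (by omega)
    rw [Ideal.ofList_nil, Ideal.mem_bot]
    exact ⟨fun h => ⟨0, by simp [h]⟩, fun ⟨x, hx⟩ => by rw [← hx, Subsingleton.elim x 0]; simp⟩
  | f :: l, r => by
    rw [Ideal.ofList_cons, Submodule.mem_sup]
    constructor
    · rintro ⟨a, ha, b, hb, rfl⟩
      obtain ⟨c, rfl⟩ := Ideal.mem_span_singleton'.1 ha
      obtain ⟨x, hx⟩ := (range_d_zero l b).1 hb
      refine ⟨inlL f l (-1) 0 rfl ((e0 l).symm c) + inrL f l (-1) x, ?_⟩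
      rw [e0_cons, snd_d f l (i := -1) (j := 0) rfl]
      simp [fst_inl, fst_inr, snd_inl, snd_inr, hx, mul_comm]
    · rintro ⟨x, rfl⟩
      rw [e0_cons, snd_d f l (i := -1) (j := 0) rfl, map_add, map_smul, smul_eq_mul]
      exact ⟨_, Ideal.mem_span_singleton'.2 ⟨_, mul_comm _ f⟩, _,
        (range_d_zero l _).2 ⟨_, rfl⟩, rfl⟩

theorem d_mem_smul_top : ∀ (l : List R) (i j : ℤ), i + 1 = j → ∀ x : X l i,
    dL l i j x ∈ Ideal.ofList l • (⊤ : Submodule R (X l j))
  | [], i, j, h, x => by
    rcases eq_or_ne i 0 with rfl | hi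
    · haveI := subsingleton_nil (R := R) (i := j) (by omega)
      rw [Subsingleton.elim (dL [] 0 j x) 0]
      exact zero_mem _
    · haveI := subsingleton_nil (R := R) hi
      rw [Subsingleton.elim x 0, map_zero]
      exact zero_mem _
  | f :: l, i, j, h, x => by
    have hle : Ideal.ofList l ≤ Ideal.ofList (f :: l) := by
      rw [Ideal.ofList_cons]; exact le_sup_right
    have e : dL (f :: l) i j x = inlL f l j (j + 1) rfl (fstL f l j (j + 1) rfl (dL (f :: l) i j x)) +
        inrL f l j (sndL f l j (dL (f :: l) i j x)) := ext_pair f l (rfl : j + 1 = j + 1)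
      (by simp [fst_inl, fst_inr]) (by simp [snd_inl, snd_inr])
    rw [e]
    refine add_mem (Submodule.smul_top_le_comap_smul_top _ (inlL f l j (j + 1) rfl) ?_)
      (Submodule.smul_top_le_comap_smul_top _ (inrL f l j) ?_)
    · rw [fst_d f l h rfl]
      exact neg_mem (Submodule.smul_mono_left hle (d_mem_smul_top l j (j + 1) rfl _))
    · rw [snd_d f l h]
      exact add_mem (Submodule.smul_mem_smul (Ideal.subset_span List.mem_cons_self) Submodule.mem_top)
        (Submodule.smul_mono_left hle (d_mem_smul_top l i j h _))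

/-- Exactness in nonzero degrees. -/
def Ex (l : List R) : Prop :=
  ∀ i j k : ℤ, i + 1 = j → j + 1 = k → j ≠ 0 → Function.Exact (dL l i j) (dL l j k)

theorem ex_iff (l : List R) : Ex l ↔ LCI.IsKoszulRegularSeq R l := by
  have key : ∀ i j k : ℤ, i + 1 = j → j + 1 = k →
      (IsZero ((Koszul.koszul R l).homology j) ↔ Function.Exact (dL l i j) (dL l j k)) := by
    intro i j k hij hjk
    rw [← HomologicalComplex.exactAt_iff_isZero_homology,
      HomologicalComplex.exactAt_iff' _ i j k (by simp; omega) (by simp; omega),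
      ShortComplex.ShortExact.moduleCat_exact_iff_function_exact]
    rfl
  constructor
  · intro h j hj
    exact (key (j - 1) j (j + 1) (by omega) rfl).2 (h _ _ _ (by omega) rfl hj)
  · intro h i j k hij hjk hj
    exact (key i j k hij hjk).1 (h j hj)

section BaseChange

variable {S : Type u} [CommRing S] [Algebra R S]

theorem subsingleton_tensor (M : Type u) [AddCommGroup M] [Module R M]
    [Subsingleton M] : Subsingleton (S ⊗[R] M) :=
  subsingleton_of_forall_eq 0 fun z => by
    induction z using TensorProduct.induction_on with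
    | zero => rfl
    | tmul s x => rw [Subsingleton.elim x 0, TensorProduct.tmul_zero]
    | add a b ha hb => rw [ha, hb, add_zero]

theorem exists_baseChange : ∀ l : List R,
    ∃ θ : ∀ i : ℤ, S ⊗[R] X l i ≃ₗ[S] X (l.map (algebraMap R S)) i,
      ∀ i j : ℤ, i + 1 = j → ∀ z, θ j ((dL l i j).baseChange S z) =
        dL (l.map (algebraMap R S)) i j (θ i z)
  | [] => by
    classical
    refine ⟨fun i => if h : i = 0 then h ▸
        ((LinearEquiv.baseChange R S _ _ (nilEquiv (R := R))) ≪≫ₗ
          TensorProduct.AlgebraTensorModule.rid R S S ≪≫ₗ (nilEquiv (R := S)).symm)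
      else
        haveI := subsingleton_nil (R := R) h
        haveI : Subsingleton (X (([] : List R).map (algebraMap R S)) i) := subsingleton_nil h
        haveI := subsingleton_tensor (R := R) (S := S) (X ([] : List R) i)
        LinearEquiv.ofSubsingleton (R := S) (S ⊗[R] X ([] : List R) i)
          (X (([] : List R).map (algebraMap R S)) i), fun i j hij z => ?_⟩
    rcases eq_or_ne j 0 with rfl | hj
    · have hi : i ≠ 0 := by omega
      haveI := subsingleton_nil (R := R) hi
      haveI := subsingleton_tensor (R := R) (S := S) (X ([] : List R) i)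
      rw [Subsingleton.elim z 0]
      simp
    · haveI : Subsingleton (X (([] : List R).map (algebraMap R S)) j) := subsingleton_nil hj
      exact Subsingleton.elim _ _
  | f :: l => by
    obtain ⟨θ, hθ⟩ := exists_baseChange l
    let Θ : ∀ i : ℤ, S ⊗[R] X (f :: l) i ≃ₗ[S] X ((f :: l).map (algebraMap R S)) i := fun i =>
      LinearEquiv.baseChange R S _ _ (pair f l i (i + 1) rfl).symm ≪≫ₗ
        TensorProduct.prodRight R S S _ _ ≪≫ₗ ((θ (i + 1)).prodCongr (θ i)) ≪≫ₗ
          pair (algebraMap R S f) (l.map (algebraMap R S)) i (i + 1) rfl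
    have h1 : ∀ i z, fstL (algebraMap R S f) (l.map (algebraMap R S)) i (i + 1) rfl (Θ i z) =
        θ (i + 1) ((fstL f l i (i + 1) rfl).baseChange S z) := by
      intro i z
      induction z using TensorProduct.induction_on with
      | zero => simp
      | tmul s x =>
        show fstL _ _ i (i + 1) rfl (inlL _ _ i (i + 1) rfl _ + inrL _ _ _ _) = _
        rw [map_add, fst_inl, fst_inr, add_zero]
        rfl
      | add a b ha hb => simp only [map_add, ha, hb]
    have h2 : ∀ i z, sndL (algebraMap R S f) (l.map (algebraMap R S)) i (Θ i z) =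
        θ i ((sndL f l i).baseChange S z) := by
      intro i z
      induction z using TensorProduct.induction_on with
      | zero => simp
      | tmul s x =>
        show sndL _ _ _ (inlL _ _ i (i + 1) rfl _ + inrL _ _ _ _) = _
        rw [map_add, snd_inl, snd_inr, zero_add]
        rfl
      | add a b ha hb => simp only [map_add, ha, hb]
    refine ⟨Θ, fun i j hij z => ?_⟩
    induction z using TensorProduct.induction_on with
    | zero => simp
    | add a b ha hb => simp only [map_add, ha, hb]
    | tmul s x =>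
      subst hij
      refine ext_pair (algebraMap R S f) (l.map (algebraMap R S))
        (rfl : i + 1 + 1 = i + 1 + 1) ?_ ?_
      · show _ = fstL _ _ (i + 1) (i + 1 + 1) rfl (dL (algebraMap R S f :: l.map (algebraMap R S)) _ _ _)
        rw [h1, fst_d (algebraMap R S f) _ rfl rfl, h1]
        simp only [LinearMap.baseChange_tmul]
        rw [fst_d f l rfl rfl, TensorProduct.tmul_neg, map_neg]
        congr 1
        exact hθ (i + 1) (i + 1 + 1) rfl (s ⊗ₜ fstL f l i (i + 1) rfl x)
      · show _ = sndL _ _ _ (dL (algebraMap R S f :: l.map (algebraMap R S)) _ _ _)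
        rw [h2, snd_d (algebraMap R S f) _ rfl, h1, h2]
        simp only [LinearMap.baseChange_tmul]
        rw [snd_d f l rfl, TensorProduct.tmul_add, map_add, TensorProduct.tmul_smul,
          ← IsScalarTower.algebraMap_smul S f, map_smul]
        congr 1
        exact hθ i (i + 1) rfl (s ⊗ₜ sndL f l i x)

/-- Koszul regularity is preserved by flat base change. -/
theorem Ex.baseChange {l : List R} (h : Ex l) [Module.Flat R S] :
    Ex (l.map (algebraMap R S)) := by
  intro i j k hij hjk hj
  obtain ⟨θ, hθ⟩ := exists_baseChange (S := S) l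
  have hex : Function.Exact ((dL l i j).baseChange S) ((dL l j k).baseChange S) :=
    Module.Flat.lTensor_exact S (h i j k hij hjk hj)
  intro y
  obtain ⟨z, rfl⟩ := (θ j).surjective y
  constructor
  · intro hy
    rw [← hθ j k hjk] at hy
    obtain ⟨w, hw⟩ := (hex z).1 ((θ k).map_eq_zero_iff.1 hy)
    exact ⟨θ i w, by rw [← hθ i j hij, hw]⟩
  · rintro ⟨w, hw⟩
    rw [← hw]
    exact dL_dL _ i j k w

end BaseChange

end Groth.Agent.KoszulLib
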