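import Groth.Agent.KoszulLib.Cone
import Mathlib.LinearAlgebra.CliffordAlgebra.Contraction
import Mathlib.LinearAlgebra.ExteriorAlgebra.Basis
import Mathlib.LinearAlgebra.Matrix.Adjugate
import Mathlib.LinearAlgebra.Determinant

/-!
# From the Koszul complex to an exterior algebra; the lemma of Wiebe
-/

set_option autoImplicit false

universe u

open scoped TensorProduct
open CliffordAlgebra (contractLeft)

namespace Groth.Agent.KoszulLib

variable {R : Type u} [CommRing R] {M : Type u} [AddCommGroup M] [Module R M]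

/-- The comparison map, given a vector for every element of the sequence. -/
noncomputable def kappa : ∀ (ws : List (R × M)) (i : ℤ),
    X (ws.map Prod.fst) i →ₗ[R] ExteriorAlgebra R M
  | [], i => if h : i = 0 then h ▸ ((Algebra.linearMap R (ExteriorAlgebra R M)).comp
      (nilEquiv (R := R)).toLinearMap) else 0
  | (f, w) :: ws, i =>
    (LinearMap.mulLeft R (ExteriorAlgebra.ι R w)).comp
        ((kappa ws (i + 1)).comp (fstL f (ws.map Prod.fst) i (i + 1) rfl)) +
      (kappa ws i).comp (sndL f (ws.map Prod.fst) i)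

theorem kappa_cons (f : R) (w : M) (ws : List (R × M)) (i j : ℤ) (h : i + 1 = j)
    (x : X (f :: ws.map Prod.fst) i) :
    kappa ((f, w) :: ws) i x = ExteriorAlgebra.ι R w * kappa ws j (fstL f (ws.map Prod.fst) i j h x) +
      kappa ws i (sndL f (ws.map Prod.fst) i x) := by
  subst h
  rfl

theorem kappa_zero : ∀ (ws : List (R × M)) (x : X (ws.map Prod.fst) 0),
    kappa ws 0 x = algebraMap R _ (e0 (ws.map Prod.fst) x)
  | [], x => rfl
  | (f, w) :: ws, x => by
    haveI := subsingleton_of_outside (ws.map Prod.fst) 1 (Or.inl one_pos)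
    rw [kappa_cons f w ws 0 1 (by norm_num), kappa_zero ws,
      Subsingleton.elim (fstL f (ws.map Prod.fst) 0 1 (by norm_num) x) 0, map_zero, mul_zero, zero_add]
    rfl

theorem contract_kappa (δ : Module.Dual R M) : ∀ (ws : List (R × M)), (∀ p ∈ ws, δ p.2 = p.1) →
    ∀ (i j : ℤ), i + 1 = j → ∀ x : X (ws.map Prod.fst) i,
      contractLeft (Q := (0 : QuadraticForm R M)) δ (kappa ws i x) =
        kappa ws j (dL (ws.map Prod.fst) i j x)
  | [], _, i, j, h, x => by
    rcases eq_or_ne i 0 with rfl | hi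
    · haveI : Subsingleton (X (([] : List (R × M)).map Prod.fst) j) :=
        subsingleton_nil (R := R) (by omega)
      rw [Subsingleton.elim (dL (([] : List (R × M)).map Prod.fst) 0 j x) 0, map_zero, kappa_zero]
      exact CliffordAlgebra.contractLeft_algebraMap (Q := (0 : QuadraticForm R M)) δ _
    · haveI : Subsingleton (X (([] : List (R × M)).map Prod.fst) i) := subsingleton_nil (R := R) hi
      rw [Subsingleton.elim x 0]
      simp
  | (f, w) :: ws, hδ, i, j, h, x => by
    have hw : δ w = f := hδ (f, w) List.mem_cons_self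
    have ih := contract_kappa δ ws fun p hp => hδ p (List.mem_cons_of_mem _ hp)
    change X (f :: ws.map Prod.fst) i at x
    show contractLeft (Q := (0 : QuadraticForm R M)) δ (kappa ((f, w) :: ws) i x) =
      kappa ((f, w) :: ws) j (dL (f :: ws.map Prod.fst) i j x)
    rw [kappa_cons f w ws i j h, kappa_cons f w ws j (j + 1) rfl, fst_d f _ h rfl, snd_d f _ h,
      map_add, map_neg, map_add, map_smul, mul_neg, ← ih i j h, ← ih j (j + 1) rfl]
    change contractLeft (Q := (0 : QuadraticForm R M)) δ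
      (CliffordAlgebra.ι _ w * kappa ws j _) + _ = _
    rw [CliffordAlgebra.contractLeft_ι_mul, hw]
    show f • _ - CliffordAlgebra.ι (0 : QuadraticForm R M) w * _ + _ =
      -(CliffordAlgebra.ι (0 : QuadraticForm R M) w * _) + _
    abel

theorem exists_top : ∀ (ws : List (R × M)) (i : ℤ), i + (ws.length : ℤ) = 0 →
    ∃ e : X (ws.map Prod.fst) i ≃ₗ[R] R,
      kappa ws i (e.symm 1) = (ws.map fun p => ExteriorAlgebra.ι R p.2).prod
  | [], i, h => by
    obtain rfl : i = 0 := by simpa using h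
    refine ⟨nilEquiv, ?_⟩
    rw [kappa_zero]
    show algebraMap R _ (nilEquiv (nilEquiv.symm (1 : R))) = _
    simp
  | (f, w) :: ws, i, h => by
    simp only [List.length_cons, Nat.cast_add, Nat.cast_one] at h
    obtain ⟨e, he⟩ := exists_top ws (i + 1) (by omega)
    haveI := subsingleton_of_outside (ws.map Prod.fst) i (Or.inr (by
      rw [List.length_map]; omega))
    let e' : X (f :: ws.map Prod.fst) i ≃ₗ[R] R :=
      ((pair f (ws.map Prod.fst) i (i + 1) rfl).symm ≪≫ₗ
        (LinearEquiv.ofLinear (LinearMap.fst R (X (ws.map Prod.fst) (i + 1)) (X (ws.map Prod.fst) i))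
          (LinearMap.inl R _ _) (LinearMap.ext fun _ => rfl)
          (LinearMap.ext fun _ => Prod.ext rfl (Subsingleton.elim _ _)))) ≪≫ₗ e
    refine ⟨e', ?_⟩
    have hsym : e'.symm 1 = inlL f (ws.map Prod.fst) i (i + 1) rfl (e.symm 1) + inrL f _ i 0 := rfl
    show kappa ((f, w) :: ws) i (e'.symm 1) = _
    rw [hsym, map_zero, add_zero, kappa_cons f w ws i (i + 1) rfl, fst_inl, snd_inl, map_zero, add_zero,
      he, List.map_cons, List.prod_cons]

theorem exists_lift {P N N' : Type u} [AddCommGroup P] [Module R P] [Module.Projective R P]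
    [AddCommGroup N] [Module R N] [AddCommGroup N'] [Module R N'] (g : N →ₗ[R] N') (φ : P →ₗ[R] N')
    (h : ∀ x, φ x ∈ LinearMap.range g) : ∃ ψ : P →ₗ[R] N, ∀ x, g (ψ x) = φ x := by
  obtain ⟨ψ, hψ⟩ := Module.projective_lifting_property g.rangeRestrict (φ.codRestrict _ h)
    g.surjective_rangeRestrict
  exact ⟨ψ, fun x => congrArg Subtype.val (LinearMap.congr_fun hψ x)⟩

/-- Wiebe's lemma: the colon of two Koszul-regular ideals. -/
theorem mem_sup_det_of_smul_mem {n : ℕ} (f g : Fin n → R) (C : Matrix (Fin n) (Fin n) R)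
    (hC : ∀ i, f i = ∑ j, C i j * g j) (hf : Ex (List.ofFn f)) (a : R)
    (ha : ∀ j, a * g j ∈ Ideal.span (Set.range f)) :
    a ∈ Ideal.span (Set.range f) ⊔ Ideal.span {C.det} := by
  classical
  let V := Fin n → R
  let δ : Module.Dual R V := ∑ j, g j • LinearMap.proj j
  let ws : List (R × V) := List.ofFn fun i => (f i, C i)
  have hfst : ws.map Prod.fst = List.ofFn f := by
    simp [ws, List.map_ofFn, Function.comp_def]
  have hδ : ∀ p ∈ ws, δ p.2 = p.1 := by
    intro p hp
    obtain ⟨i, rfl⟩ := List.mem_ofFn.1 hp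
    show δ (C i) = f i
    simp only [δ, LinearMap.sum_apply, LinearMap.smul_apply, LinearMap.proj_apply, smul_eq_mul, hC i]
    exact Finset.sum_congr rfl fun j _ => mul_comm _ _
  let l := ws.map Prod.fst
  have hl : Ideal.ofList l = Ideal.span (Set.range f) := by
    show Ideal.ofList (ws.map Prod.fst) = _
    rw [hfst]
    exact congrArg Ideal.span (Set.ext fun x => List.mem_ofFn)
  have hEx : Ex l := by
    show Ex (ws.map Prod.fst)
    rw [hfst]; exact hf
  let c : ExteriorAlgebra R V →ₗ[R] ExteriorAlgebra R V :=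
    contractLeft (Q := (0 : QuadraticForm R V)) δ
  let ε : ExteriorAlgebra R V →ₗ[R] R := (ExteriorAlgebra.algebraMapInv (R := R) (M := V)).toLinearMap
  haveI : Module.Free R (ExteriorAlgebra R V) :=
    Module.Free.of_basis (Pi.basisFun R (Fin n)).ExteriorAlgebra
  have hεc : ∀ x, a * ε (c x) ∈ Ideal.span (Set.range f) := by
    intro x
    induction x using CliffordAlgebra.left_induction with
    | algebraMap r => simp [c]
    | add x y hx hy => rw [map_add, map_add, mul_add]; exact add_mem hx hy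
    | ι_mul x m hx =>
      have h1 : c (CliffordAlgebra.ι _ m * x) = δ m • x - CliffordAlgebra.ι _ m * c x :=
        CliffordAlgebra.contractLeft_ι_mul _ _ _
      have h2 : ε (CliffordAlgebra.ι (0 : QuadraticForm R V) m * c x) = 0 := by
        show ExteriorAlgebra.algebraMapInv (ExteriorAlgebra.ι R m * c x) = 0
        simp [ExteriorAlgebra.algebraMapInv]
      rw [h1, map_sub, h2, sub_zero, map_smul, smul_eq_mul, ← mul_assoc]
      refine Ideal.mul_mem_right _ _ ?_
      simp only [δ, LinearMap.sum_apply, LinearMap.smul_apply, LinearMap.proj_apply, smul_eq_mul,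
        Finset.mul_sum, ← mul_assoc]
      exact Ideal.sum_mem _ fun j _ => Ideal.mul_mem_right _ _ (ha j)
  -- the lift back
  have hα : ∀ k : ℕ, ∃ α : ExteriorAlgebra R V →ₗ[R] X l (-(k : ℤ)),
      ∀ x, α (c x) ∈ LinearMap.range (dL l (-((k + 1 : ℕ) : ℤ)) (-(k : ℤ))) := by
    intro k
    induction k with
    | zero =>
      refine ⟨(e0 l).symm.toLinearMap.comp (a • ε), fun x => ?_⟩
      obtain ⟨y, hy⟩ := (range_d_zero l _).1 (hl.symm ▸ hεc x :)
      refine ⟨y, (e0 l).injective ?_⟩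
      show e0 l (dL l (-1) 0 y) = e0 l ((e0 l).symm ((a • ε) (c x)))
      rw [hy, LinearEquiv.apply_symm_apply]
      rfl
    | succ k ih =>
      obtain ⟨α, hα⟩ := ih
      obtain ⟨β, hβ⟩ := exists_lift (dL l (-((k + 1 : ℕ) : ℤ)) (-(k : ℤ))) (α ∘ₗ c) hα
      refine ⟨β, fun x => ?_⟩
      refine (hEx (-((k + 1 + 1 : ℕ) : ℤ)) (-((k + 1 : ℕ) : ℤ)) (-(k : ℤ)) (by push_cast; ring)
        (by push_cast; ring) (by push_cast; omega) (β (c x))).1 ?_
      rw [hβ, LinearMap.comp_apply, show c (c x) = 0 from CliffordAlgebra.contractLeft_contractLeft _ _,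
        map_zero]
  -- the family of lifts, chosen coherently
  have hstep : ∀ (k : ℕ) (α : {α : ExteriorAlgebra R V →ₗ[R] X l (-(k : ℤ)) //
      ∀ x, α (c x) ∈ LinearMap.range (dL l (-((k + 1 : ℕ) : ℤ)) (-(k : ℤ)))}),
      ∃ β : {β : ExteriorAlgebra R V →ₗ[R] X l (-((k + 1 : ℕ) : ℤ)) //
        ∀ x, β (c x) ∈ LinearMap.range (dL l (-((k + 1 + 1 : ℕ) : ℤ)) (-((k + 1 : ℕ) : ℤ)))},
        ∀ x, dL l (-((k + 1 : ℕ) : ℤ)) (-(k : ℤ)) (β.1 x) = α.1 (c x) := by
    intro k α
    obtain ⟨β, hβ⟩ := exists_lift (dL l (-((k + 1 : ℕ) : ℤ)) (-(k : ℤ))) (α.1 ∘ₗ c) α.2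
    refine ⟨⟨β, fun x => ?_⟩, hβ⟩
    refine (hEx (-((k + 1 + 1 : ℕ) : ℤ)) (-((k + 1 : ℕ) : ℤ)) (-(k : ℤ)) (by push_cast; ring)
      (by push_cast; ring) (by push_cast; omega) (β (c x))).1 ?_
    rw [hβ, LinearMap.comp_apply, show c (c x) = 0 from CliffordAlgebra.contractLeft_contractLeft _ _,
      map_zero]
  choose next hnext using hstep
  have hzero : ∀ x, ((e0 l).symm.toLinearMap.comp (a • ε)) (c x) ∈
      LinearMap.range (dL l (-((0 + 1 : ℕ) : ℤ)) (-((0 : ℕ) : ℤ))) := fun x => by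
    obtain ⟨y, hy⟩ := (range_d_zero l _).1 (hl.symm ▸ hεc x :)
    refine ⟨y, (e0 l).injective ?_⟩
    show e0 l (dL l (-1) 0 y) = e0 l ((e0 l).symm ((a • ε) (c x)))
    rw [hy, LinearEquiv.apply_symm_apply]
    rfl
  let A : ∀ k : ℕ, {α : ExteriorAlgebra R V →ₗ[R] X l (-(k : ℤ)) //
      ∀ x, α (c x) ∈ LinearMap.range (dL l (-((k + 1 : ℕ) : ℤ)) (-(k : ℤ)))} :=
    fun k => Nat.rec (motive := fun k => {α : ExteriorAlgebra R V →ₗ[R] X l (-(k : ℤ)) //
      ∀ x, α (c x) ∈ LinearMap.range (dL l (-((k + 1 : ℕ) : ℤ)) (-(k : ℤ)))})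
      ⟨_, hzero⟩ next k
  let β : ∀ k : ℕ, X l (-(k : ℤ)) →ₗ[R] X l (-(k : ℤ)) := fun k =>
    (A k).1 ∘ₗ kappa ws (-(k : ℤ)) - a • LinearMap.id
  have hβd : ∀ (k : ℕ) (y : X l (-((k + 1 : ℕ) : ℤ))),
      dL l (-((k + 1 : ℕ) : ℤ)) (-(k : ℤ)) (β (k + 1) y) =
        β k (dL l (-((k + 1 : ℕ) : ℤ)) (-(k : ℤ)) y) := by
    intro k y
    show dL l _ _ ((A (k + 1)).1 (kappa ws _ y) - a • y) =
      (A k).1 (kappa ws _ (dL l _ _ y)) - a • dL l _ _ y
    rw [map_sub, map_smul, ← contract_kappa δ ws hδ (-((k + 1 : ℕ) : ℤ)) (-(k : ℤ)) (by push_cast; ring)]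
    congr 1
    exact hnext k (A k) _
  have hβ0 : ∀ y, β 0 y = 0 := by
    have h0 : ∀ y : X l 0, (e0 l).symm (a • ε (kappa ws 0 y)) - a • y = 0 := by
      intro y
      rw [kappa_zero]
      show (e0 l).symm (a • ExteriorAlgebra.algebraMapInv (algebraMap R _ (e0 l y))) - a • y = 0
      rw [AlgHom.commutes, map_smul, show (e0 l).symm (algebraMap R R (e0 l y)) = y from
        (e0 l).symm_apply_apply y, sub_self]
    intro y
    exact h0 y
  haveI : ∀ i, Module.Free R (X l i) := free l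
  have hs : ∀ k : ℕ, ∃ s : X l (-(k : ℤ)) →ₗ[R] X l (-((k + 1 : ℕ) : ℤ)),
      ∀ y : X l (-((k + 1 : ℕ) : ℤ)),
        dL l (-((k + 1 : ℕ) : ℤ)) (-(k : ℤ))
          (β (k + 1) y - s (dL l (-((k + 1 : ℕ) : ℤ)) (-(k : ℤ)) y)) = 0 := by
    intro k
    induction k with
    | zero => exact ⟨0, fun y => by rw [LinearMap.zero_apply, sub_zero, hβd, hβ0]⟩
    | succ k ih =>
      obtain ⟨s, hs⟩ := ih
      obtain ⟨t, ht⟩ := exists_lift (dL l (-((k + 1 + 1 : ℕ) : ℤ)) (-((k + 1 : ℕ) : ℤ)))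
        (β (k + 1) - s ∘ₗ dL l (-((k + 1 : ℕ) : ℤ)) (-(k : ℤ))) fun y =>
          (hEx _ _ _ (by push_cast; ring) (by push_cast; ring) (by push_cast; omega) _).1 (hs y)
      refine ⟨t, fun y => ?_⟩
      rw [map_sub, hβd, ht]
      show β (k + 1) _ - (β (k + 1) _ - s (dL l _ _ (dL l _ _ y))) = 0
      rw [dL_dL, map_zero, sub_zero, sub_self]
  rcases Nat.eq_zero_or_pos n with hn | hn
  · subst hn
    rw [Matrix.det_isEmpty, Ideal.span_singleton_one]
    exact Submodule.mem_sup_right Submodule.mem_top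
  obtain ⟨m, rfl⟩ : ∃ m, n = m + 1 := ⟨n - 1, by omega⟩
  obtain ⟨s, hs⟩ := hs m
  have hlen : ws.length = m + 1 := by simp [ws]
  obtain ⟨et, het⟩ := exists_top ws (-((m + 1 : ℕ) : ℤ)) (by rw [hlen]; ring)
  set τ := et.symm 1
  haveI := subsingleton_of_outside l (-((m + 1 + 1 : ℕ) : ℤ)) (Or.inr (by
    show _ + ((ws.map Prod.fst).length : ℤ) < 0
    rw [List.length_map, hlen]; push_cast; omega))
  obtain ⟨z, hz⟩ := (hEx (-((m + 1 + 1 : ℕ) : ℤ)) (-((m + 1 : ℕ) : ℤ)) (-(m : ℤ)) (by push_cast; ring)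
    (by push_cast; ring) (by push_cast; omega) _).1 (hs τ)
  rw [Subsingleton.elim z 0, map_zero, eq_comm, sub_eq_zero] at hz
  have hmem : β (m + 1) τ ∈ Ideal.ofList l • (⊤ : Submodule R (X l (-((m + 1 : ℕ) : ℤ)))) := by
    rw [hz]
    exact Submodule.smul_top_le_comap_smul_top _ s (d_mem_smul_top l _ _ (by push_cast; ring) τ)
  have hmem' : et (β (m + 1) τ) ∈ Ideal.span (Set.range f) := by
    have h1 : et (β (m + 1) τ) ∈ Ideal.ofList l • (⊤ : Submodule R R) :=
      Submodule.smul_top_le_comap_smul_top _ et.toLinearMap hmem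
    rwa [smul_eq_mul, Ideal.mul_top, hl] at h1
  -- the determinant
  let E := ExteriorAlgebra.ιMulti R (m + 1) (Pi.basisFun R (Fin (m + 1)))
  have hdet : (ws.map fun p => ExteriorAlgebra.ι R p.2).prod = C.det • E := by
    have h1 : ExteriorAlgebra.ιMulti R (m + 1) =
        (LinearMap.toSpanSingleton R (ExteriorAlgebra R V) E).compAlternatingMap
          (Pi.basisFun R (Fin (m + 1))).det := by
      refine Module.Basis.ext_alternating (Pi.basisFun R (Fin (m + 1))) fun v hv => ?_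
      let σ : Equiv.Perm (Fin (m + 1)) := Equiv.ofBijective v (Finite.injective_iff_bijective.1 hv)
      change ExteriorAlgebra.ιMulti R (m + 1) (Pi.basisFun R (Fin (m + 1)) ∘ σ) =
        (Pi.basisFun R (Fin (m + 1))).det (Pi.basisFun R (Fin (m + 1)) ∘ σ) • E
      rw [AlternatingMap.map_perm, AlternatingMap.map_perm, Module.Basis.det_self]
      simp [E]
    have h2 := congrArg (fun F => F (fun i => C i)) h1
    rw [LinearMap.compAlternatingMap_apply, LinearMap.toSpanSingleton_apply,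
      ExteriorAlgebra.ιMulti_apply] at h2
    simp only [ws, List.map_ofFn, Function.comp_def]
    rw [h2, Module.Basis.det_apply]
    congr 1
    rw [← Matrix.det_transpose]
    congr 1
  have hfinal : et (β (m + 1) τ) = C.det * et ((A (m + 1)).1 E) - a := by
    show et ((A (m + 1)).1 (kappa ws _ τ) - a • τ) = _
    rw [het, hdet, map_sub, map_smul, map_smul, map_smul, smul_eq_mul, smul_eq_mul]
    rw [show et τ = 1 from et.apply_symm_apply 1, mul_one]
  rw [hfinal] at hmem'
  have : a = -(C.det * et ((A (m + 1)).1 E) - a) + C.det * et ((A (m + 1)).1 E) := by ring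
  rw [this]
  exact Submodule.add_mem_sup (neg_mem hmem')
    (Ideal.mul_mem_right _ _ (Ideal.mem_span_singleton_self _))

end Groth.Agent.KoszulLib
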